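import Groth.Agent.CohBCLib.Exchange
import Groth.Agent.HomTwistLib.Main
import Groth.Agent.ExtTwistSecLib.Main
import Groth.Agent.S2297
import Groth.Agent.S4654
import Groth.Agent.CurvLib.EulerTensor
import Groth.Agent.LocSuppLib.LocFree

/-!
# Homomorphisms from finite locally free modules into `f^*(M~) ⊗ F`
-/

set_option autoImplicit false
set_option linter.style.haveILetI false
set_option linter.unusedSectionVars false
set_option backward.isDefEq.respectTransparency false
set_option backward.isDefEq.respectTransparency.types false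
set_option maxHeartbeats 1000000

universe u

open CategoryTheory CategoryTheory.Limits AlgebraicGeometry Opposite TopologicalSpace
open CohCmpLib (homMod curryMod evMod curryMod_comp hom_homMod_ext)
open KFlatLib (tens)
open PnDualLib (homFun)

noncomputable section

namespace Groth.Agent.LocFreeCorepLib

open _root_.Groth.Agent.HomTwistLib (tR)

variable {X : Scheme.{u}}

/-- Associativity, naturally in the first factor. -/
def assocR (F D : X.Modules) : tR F ⋙ tR D ≅ tR (tens F D) :=
  NatIso.ofComponents (fun P => ((TensorAssocLib.assocBiX.app P).app F).app D) fun {P Q} g =>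
    NatTrans.congr_app (NatTrans.congr_app (TensorAssocLib.assocBiX.hom.naturality g) F) D

section Flat

theorem isFinLocFree_freeMod (n : ℕ) : FlatMod.IsFinLocFree (FlatMod.freeMod X n) := fun _ =>
  ⟨⊤, n, trivial, ⟨(Scheme.Modules.restrictFunctorIsoPullback (⊤ : X.Opens).ι).app _ ≪≫ KFlatLib.pullFreeIso (⊤ : X.Opens).ι n⟩⟩

theorem isCoh_tens {F E : X.Modules} (hF : Coh.IsCoh F) (hE : Coh.IsCoh E) :
    Coh.IsCoh (CohB1.tensorMod F E) :=
  haveI := hF.1
  haveI := hE.1
  ⟨(Groth.Agent.S2297.result F E).1, (Groth.Agent.S2297.result F E).2 hF.2 hE.2⟩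

theorem isQCoh_tens_coh {F E : X.Modules} (hF : Coh.IsCoh F) (hE : Coh.IsCoh E) :
    Coh.IsQCoh (CohB1.tensorMod F E) := (isCoh_tens hF hE).1

theorem isFlatOver_tensor_freeMod [IsLocallyNoetherian X] {T : Scheme.{u}} (f : X ⟶ T) {F : X.Modules}
    (hF : Coh.IsCoh F) (hfl : FlatMod.IsFlatOver f F) :
    ∀ n, FlatMod.IsFlatOver f (CohB1.tensorMod F (FlatMod.freeMod X n))
  | 0 => RelFlatLib.isFlatOver_of_isZero f
      (Functor.map_isZero ((DCoh.tensorBi (X := X)).obj F) ((IsZero.iff_id_eq_zero _).2 (Sigma.hom_ext _ _ fun j => nomatch j)))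
  | n + 1 => by
    haveI : PreservesBinaryBiproducts ((DCoh.tensorBi (X := X)).obj F) :=
      preservesBinaryBiproducts_of_preservesBinaryCoproducts _
    let G := (DCoh.tensorBi (X := X)).obj F
    haveI : G.Additive := Functor.additive_of_preservesBinaryBiproducts _
    let O := Coh.structureModule X
    let N := FlatMod.freeMod X n
    let S : ShortComplex X.Modules := ShortComplex.mk (biprod.inl : O ⟶ O ⊞ N) biprod.snd (by simp)
    have hS : (S.map G).ShortExact := ((ShortComplex.Splitting.ofHasBinaryBiproduct O N).map G).shortExact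
    have hO : Coh.IsCoh O := LocSuppLib.isCoh_of_isFinLocFree (Groth.Agent.S1063.isFinLocFree_structureModule X)
    have hN : Coh.IsCoh N := LocSuppLib.isCoh_of_isFinLocFree ((isFinLocFree_freeMod n))
    have h2 : Coh.IsCoh (O ⊞ N) := QCohLib.isCoh_of_iso (CurvLib.freeModSucc X n)
      (LocSuppLib.isCoh_of_isFinLocFree ((isFinLocFree_freeMod (n + 1))))
    have h3 : FlatMod.IsFlatOver f (S.map G).X₂ :=
      (Groth.Agent.S4654.result f (S.map G) hS (isQCoh_tens_coh hF hO) (isQCoh_tens_coh hF h2)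
        (isQCoh_tens_coh hF hN) (isFlatOver_tensor_freeMod f hF hfl n)).2
        (RelFlatLib.isFlatOver_of_iso f (ExtTwistSecLib.uR F).symm hfl)
    exact RelFlatLib.isFlatOver_of_iso f (G.mapIso (CurvLib.freeModSucc X n)).symm h3

theorem isFlatOver_tensor_locFree [IsLocallyNoetherian X] {T : Scheme.{u}} (f : X ⟶ T) {F E : X.Modules}
    (hF : Coh.IsCoh F) (hfl : FlatMod.IsFlatOver f F) (hE : FlatMod.IsFinLocFree E) :
    FlatMod.IsFlatOver f (CohB1.tensorMod F E) := by
  intro x
  obtain ⟨U, n, hx, ⟨i⟩⟩ := hE x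
  haveI := KFlatLib.isIso_pullθ U.ι F E
  let e : (Scheme.Modules.pullback U.ι).obj (CohB1.tensorMod F E) ≅
      CohB1.tensorMod ((Scheme.Modules.pullback U.ι).obj F) (FlatMod.freeMod U n) :=
    @asIso _ _ _ _ (KFlatLib.pullθ U.ι F E) this ≪≫
      HilbPolyLib.congrRight _ (((Scheme.Modules.restrictFunctorIsoPullback U.ι).app E).symm ≪≫ i)
  have hflU : FlatMod.IsFlatOver (U.ι ≫ f) ((Scheme.Modules.pullback U.ι).obj F) := fun z =>
    (RichLib.ModFlat.isFlatOverAt_comp_source U.ι f F z).2 (hfl _)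
  have hFU : Coh.IsCoh ((Scheme.Modules.pullback U.ι).obj F) := ConsLib.isCoh_pullback U.ι hF
  have h := isFlatOver_tensor_freeMod (U.ι ≫ f) hFU hflU n ⟨x, hx⟩
  rw [← RichLib.ModFlat.isFlatOverAt_iso _ e] at h
  exact (RichLib.ModFlat.isFlatOverAt_comp_source U.ι f (CohB1.tensorMod F E) ⟨x, hx⟩).1 h

end Flat

variable {A : Type u} [CommRing A] [X.Over (Spec (CommRingCat.of A))]

theorem curryR_comp (E : X.Modules) {P Q : X.Modules} (φ : E ⟶ P) (g : P ⟶ Q) :
    ExtTwistSecLib.curryR (A := A) E Q (φ ≫ g) = ExtTwistSecLib.curryR (A := A) E P φ ≫ (homFun E).map g := by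
  rw [PnDualLib.homFun_map]
  refine hom_homMod_ext ?_
  show ((DCoh.tensorBi (X := X)).obj E).map (curryMod ((ExtTwistSecLib.uR E).hom ≫ φ ≫ g)) ≫ evMod E Q =
    ((DCoh.tensorBi (X := X)).obj E).map (curryMod ((ExtTwistSecLib.uR E).hom ≫ φ) ≫ HomCohLib.mapR E g) ≫ evMod E Q
  rw [curryMod_comp, Functor.map_comp, Category.assoc, HomCohLib.mapR, curryMod_comp, ← Category.assoc,
    ← Category.assoc, curryMod_comp, Category.assoc]

/-- `Hom(E, -)` is `Hom(O, Hom(E, -))`. -/
def coyonedaIso (A : Type u) [CommRing A] [X.Over (Spec (CommRingCat.of A))] (E : X.Modules) :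
    preadditiveCoyoneda.obj (op E) ≅ homFun E ⋙ preadditiveCoyoneda.obj (op (Coh.structureModule X)) :=
  NatIso.ofComponents
    (fun P => AddEquiv.toAddCommGrpIso (X := (preadditiveCoyoneda.obj (op E)).obj P)
      (Y := (homFun E ⋙ preadditiveCoyoneda.obj (op (Coh.structureModule X))).obj P)
      (AddEquiv.ofBijective (ExtTwistSecLib.curryR (A := A) E P).toAddMonoidHom
        (ExtTwistSecLib.curryR_bijective (A := A) E P)))
    fun {P Q} g => AddCommGrpCat.hom_ext (AddMonoidHom.ext fun φ => curryR_comp (A := A) E φ g)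

/-- Sections as homomorphisms out of the structure sheaf. -/
def unitSec (P : X.Modules) : (Coh.structureModule X ⟶ P) ≃+ Γ(P, ⊤) :=
  AddEquiv.ofBijective (AddMonoidHom.mk' (fun φ => φ.app ⊤ (1 : Γ(X, ⊤))) fun a b => rfl) (by
    constructor
    · intro a b h
      refine (SheafOfModules.unitHomEquiv P).injective (Subtype.ext (funext fun W => ?_))
      have e : ∀ c : Coh.structureModule X ⟶ P, c.app W.unop (1 : Γ(X, W.unop)) =
          P.presheaf.map (homOfLE le_top).op (c.app ⊤ (1 : Γ(X, ⊤))) := fun c => by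
        refine Eq.trans ?_ (QCohLib.app_map c (homOfLE (le_top : W.unop ≤ ⊤)) (1 : Γ(X, ⊤)))
        exact congrArg _ (map_one (X.presheaf.map (homOfLE (le_top : W.unop ≤ ⊤)).op).hom).symm
      exact (e a).trans ((congrArg _ h).trans (e b).symm)
    · intro s
      let t : P.sections := ⟨fun W => P.presheaf.map (homOfLE (le_top : W.unop ≤ ⊤)).op s, fun {W W'} g =>
        (ConcreteCategory.congr_hom (P.presheaf.map_comp _ g).symm s).trans rfl⟩
      refine ⟨(SheafOfModules.unitHomEquiv P).symm t, ?_⟩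
      have h := congrArg (fun z => z.val (op ⊤)) ((SheafOfModules.unitHomEquiv P).apply_symm_apply t)
      exact h.trans (ConcreteCategory.congr_hom (P.presheaf.map_id (op ⊤)) s))

/-- Global sections are homomorphisms out of the structure sheaf. -/
def gsCoyonedaIso : preadditiveCoyoneda.obj (op (Coh.structureModule X)) ≅
    CohIII.globalSectionsA A ⋙ forget₂ (ModuleCat.{u} A) AddCommGrpCat.{u} :=
  NatIso.ofComponents
    (fun P => AddEquiv.toAddCommGrpIso (X := (preadditiveCoyoneda.obj (op (Coh.structureModule X))).obj P)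
      (Y := (CohIII.globalSectionsA A ⋙ forget₂ (ModuleCat.{u} A) AddCommGrpCat.{u}).obj P)
      (unitSec P))
    fun {P Q} g => AddCommGrpCat.hom_ext (AddMonoidHom.ext fun φ => by
      exact rfl)

variable (A) in
theorem exists_corep_hom [IsNoetherianRing A] [IsProper (X ↘ Spec (CommRingCat.of A))] (F : X.Modules)
    (hF : Coh.IsCoh F) (hfl : FlatMod.IsFlatOver (X ↘ Spec (CommRingCat.of A)) F) {E : X.Modules}
    (hE : FlatMod.IsFinLocFree E) :
    ∃ Q : ModuleCat.{u} A, Module.Finite A Q ∧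
      Nonempty (CohIII.tensorAFunctor A F ⋙ preadditiveCoyoneda.obj (op E) ≅ preadditiveCoyoneda.obj (op Q)) := by
  haveI : IsLocallyNoetherian X := LocallyOfFiniteType.isLocallyNoetherian (X ↘ Spec (CommRingCat.of A))
  let D := homMod E (Coh.structureModule X)
  have hD : FlatMod.IsFinLocFree D := CohCmpLib.isFinLocFree_homMod hE (Groth.Agent.S1063.isFinLocFree_structureModule X)
  obtain ⟨U⟩ := CohBCLib.exists_univ (X ↘ Spec (CommRingCat.of A)) (tens F D)
    (isCoh_tens hF (LocSuppLib.isCoh_of_isFinLocFree hD))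
    (isFlatOver_tensor_locFree _ hF hfl hD)
  obtain ⟨Q, hQ, ⟨e⟩⟩ := CohBCLib.exists_corep_globalSections U
  refine ⟨Q, hQ, ⟨?_⟩⟩
  exact Functor.isoWhiskerLeft _ (coyonedaIso A E ≪≫
      Functor.isoWhiskerRight (HomLocFreeLib.dualTensIso hE).symm _ ≪≫
      Functor.isoWhiskerLeft _ (gsCoyonedaIso (A := A))) ≪≫
    Functor.isoWhiskerRight (Functor.isoWhiskerLeft (tilde.functor (CommRingCat.of A) ⋙
      Scheme.Modules.pullback (X ↘ Spec (CommRingCat.of A))) (assocR F D))
      (CohIII.globalSectionsA A ⋙ forget₂ (ModuleCat.{u} A) AddCommGrpCat.{u}) ≪≫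
    Functor.isoWhiskerRight e (forget₂ (ModuleCat.{u} A) AddCommGrpCat.{u})

end Groth.Agent.LocFreeCorepLib

end
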